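import Groth.Agent.QCoh.TensorA
import Groth.Agent.CohPullLib.SectPull
import Groth.Agent.Synt29.ExtBC
import Groth.Prelude.Def_ExtPow2

/-!
# Exterior powers of `M~` on affine opens
-/

set_option autoImplicit false
set_option backward.isDefEq.respectTransparency false
set_option backward.isDefEq.respectTransparency.types false
set_option linter.style.haveILetI false
set_option maxHeartbeats 1000000

universe u

open CategoryTheory CategoryTheory.Limits AlgebraicGeometry TopologicalSpace Opposite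
open scoped TensorProduct

namespace Groth.Agent.TildeSec

variable {A : Type u} [CommRing A]

/-- The spectrum. -/
noncomputable abbrev SA (A : Type u) [CommRing A] : Scheme.{u} := Spec (CommRingCat.of A)

/-- The structure map on an open. -/
noncomputable def strMap (A : Type u) [CommRing A] (W : (SA A).Opens) : A →+* Γ(SA A, W) :=
  ((SA A).presheaf.map (homOfLE (le_top : W ≤ ⊤)).op).hom.comp (Scheme.ΓSpecIso (CommRingCat.of A)).inv.hom

/-- Sections over an open as an `A`-algebra. -/
@[reducible] noncomputable def algW (A : Type u) [CommRing A] (W : (SA A).Opens) : Algebra A Γ(SA A, W) :=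
  (strMap A W).toAlgebra

attribute [local instance] algW

/-- Sections of a module as an `A`-module. -/
@[reducible] noncomputable def modW (E : (SA A).Modules) (W : (SA A).Opens) : Module A Γ(E, W) :=
  Module.compHom _ (strMap A W)

attribute [local instance] modW

instance tower (E : (SA A).Modules) (W : (SA A).Opens) : IsScalarTower A Γ(SA A, W) Γ(E, W) :=
  IsScalarTower.of_algebraMap_smul fun _ _ => rfl

/-- `M~`. -/
noncomputable abbrev til (M : Type u) [AddCommGroup M] [Module A M] : (SA A).Modules :=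
  tilde (R := CommRingCat.of A) (ModuleCat.of A M)

variable (M : Type u) [AddCommGroup M] [Module A M]

/-- The section defined by an element. -/
noncomputable def u (W : (SA A).Opens) : M →ₗ[A] Γ(til (A := A) M, W) where
  toFun m := (til M).presheaf.map (homOfLE (le_top : W ≤ ⊤)).op (QCoh.topSec (ModuleCat.of A M) m)
  map_add' m m' := by rw [QCoh.topSec_add, map_add]
  map_smul' a m := by
    rw [QCoh.topSec_smul]
    exact Scheme.Modules.map_smul (til M) (homOfLE (le_top : W ≤ ⊤)) _ _

theorem res_u {W V : (SA A).Opens} (h : V ≤ W) (m : M) :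
    (til M).presheaf.map (homOfLE h).op (u M W m) = u M V m :=
  QCoh.map_map _ _ _

/-- Sections of `M~` over an affine open are the base change of `M`. -/
theorem isBaseChange_u {W : (SA A).Opens} (hW : IsAffineOpen W) : IsBaseChange Γ(SA A, W) (u M W) := by
  letI : Algebra Γ(SA A, ⊤) Γ(SA A, W) :=
    ((SA A).presheaf.map (homOfLE (le_top : W ≤ ⊤)).op).hom.toAlgebra
  letI : Algebra A Γ(SA A, ⊤) := (Scheme.ΓSpecIso (CommRingCat.of A)).inv.hom.toAlgebra
  letI : Module A Γ(til (A := A) M, ⊤) := Module.compHom _ (algebraMap A Γ(SA A, ⊤))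
  haveI : IsScalarTower A Γ(SA A, ⊤) Γ(til (A := A) M, ⊤) := .of_algebraMap_smul fun _ _ => rfl
  haveI : IsScalarTower A Γ(SA A, ⊤) Γ(SA A, W) := IsScalarTower.of_algebraMap_eq fun a => rfl
  let u₀ : M →ₗ[A] Γ(til (A := A) M, ⊤) :=
    { toFun := QCoh.topSec (ModuleCat.of A M)
      map_add' := fun a b => QCoh.topSec_add (ModuleCat.of A M) a b
      map_smul' := fun a m => QCoh.topSec_smul (ModuleCat.of A M) a m }
  have hu₀ : IsBaseChange Γ(SA A, ⊤) u₀ := by
    have hb : Function.Bijective u₀ := QCoh.bijective_topSec (ModuleCat.of A M)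
    have hs : Function.Bijective (algebraMap A Γ(SA A, ⊤)) :=
      ConcreteCategory.bijective_of_isIso (Scheme.ΓSpecIso (CommRingCat.of A)).inv
    let eS : A ≃ₐ[A] Γ(SA A, ⊤) := AlgEquiv.ofBijective (Algebra.ofId A Γ(SA A, ⊤)) hs
    let e : Γ(SA A, ⊤) ⊗[A] M ≃ₗ[A] Γ(til (A := A) M, ⊤) :=
      (TensorProduct.congr eS.symm.toLinearEquiv (LinearEquiv.refl A M)).trans
        ((TensorProduct.lid A M).trans (LinearEquiv.ofBijective u₀ hb))
    refine IsBaseChange.of_equiv (e.toAddEquiv.toLinearEquiv fun s x => ?_) fun x => ?_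
    · obtain ⟨a, rfl⟩ := hs.2 s
      show e (algebraMap A Γ(SA A, ⊤) a • x) = algebraMap A Γ(SA A, ⊤) a • e x
      rw [algebraMap_smul, algebraMap_smul]
      exact e.map_smul a x
    · show u₀ (eS.symm 1 • x) = u₀ x
      rw [map_one, one_smul]
  let P := (Scheme.Modules.pullback (𝟙 (SA A))).obj (til M)
  letI : Module Γ(SA A, ⊤) Γ(P, W) :=
    Module.compHom _ ((SA A).presheaf.map (homOfLE (le_top : W ≤ ⊤)).op).hom
  haveI : IsScalarTower Γ(SA A, ⊤) Γ(SA A, W) Γ(P, W) := .of_algebraMap_smul fun _ _ => rfl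
  have happ : ∀ r : Γ(SA A, ⊤), algebraMap Γ(SA A, ⊤) Γ(SA A, W) r =
      (𝟙 (SA A) : SA A ⟶ SA A).appLE ⊤ W (fun _ _ => trivial) r := fun r => by
    rw [Scheme.Hom.appLE, CommRingCat.comp_apply]
    rfl
  let l : Γ(til (A := A) M, ⊤) →ₗ[Γ(SA A, ⊤)] Γ(P, W) :=
    { toFun := QCoh.pullSec (𝟙 (SA A)) (til M) (V := ⊤) (fun _ _ => trivial)
      map_add' := QCoh.pullSec_add _ _ _
      map_smul' := fun r x => by
        refine (QCoh.pullSec_smul _ _ _ r x).trans ?_
        rw [← happ]
        rfl }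
  have hl : IsBaseChange Γ(SA A, W) l :=
    QCoh.isBaseChange_pullback (M := til M) (isAffineOpen_top _) (𝟙 (SA A)) hW
      (QCoh.isQCoh_spec_iff.2 ⟨ModuleCat.of A M, ⟨Iso.refl _⟩⟩) (fun _ _ => trivial) happ l fun _ => rfl
  haveI : IsScalarTower A Γ(SA A, ⊤) Γ(P, W) := .of_algebraMap_smul fun _ _ => rfl
  have hbc : IsBaseChange Γ(SA A, W) ((l.restrictScalars A) ∘ₗ u₀) := IsBaseChange.comp hu₀ hl
  let ι := (Scheme.Modules.pullbackId (SA A)).app (til M)
  have hbij : Function.Bijective (ι.hom.app W) := by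
    refine Function.bijective_iff_has_inverse.2 ⟨ι.inv.app W, fun x => ?_, fun x => ?_⟩
    · exact congr(($(ι.hom_inv_id)).app W x)
    · exact congr(($(ι.inv_hom_id)).app W x)
  let e : Γ(P, W) ≃ₗ[Γ(SA A, W)] Γ(til M, W) :=
    LinearEquiv.ofBijective
      { toFun := fun x => ι.hom.app W x
        map_add' := map_add _
        map_smul' := fun r x => Scheme.Modules.Hom.app_smul _ _ _ } hbij
  refine IsBaseChange.of_equiv (hbc.equiv.trans e) fun x => ?_
  rw [LinearEquiv.trans_apply, IsBaseChange.equiv_tmul, one_smul]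
  exact CohPullLib.pullbackId_pullSec (til M) (V := ⊤) (fun _ _ => trivial) (QCoh.topSec (ModuleCat.of A M) x)

variable (n : ℕ)

/-- The comparison on an affine open. -/
noncomputable def psi {W : (SA A).Opens} (hW : IsAffineOpen W) :
    ↥(⋀[Γ(SA A, W)]^n Γ(til M, W)) ≃ₗ[Γ(SA A, W)] Γ(til ↥(⋀[A]^n M), W) :=
  (LinearEquiv.ofBijective (exteriorPower.map n (isBaseChange_u M hW).equiv.symm.toLinearMap) (by
      refine Function.bijective_iff_has_inverse.2
        ⟨exteriorPower.map n (isBaseChange_u M hW).equiv.toLinearMap, fun z => ?_, fun z => ?_⟩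
      · rw [← LinearMap.comp_apply, ← exteriorPower.map_comp]
        simp [exteriorPower.map_id]
      · rw [← LinearMap.comp_apply, ← exteriorPower.map_comp]
        simp [exteriorPower.map_id])).trans
    ((LinearEquiv.ofBijective (Synt29.ExtBC.fwd A Γ(SA A, W) M n)
        (Synt29.ExtBC.bijective_fwd (A := A) (B := Γ(SA A, W)) (M := M) n)).symm.trans
      (isBaseChange_u ↥(⋀[A]^n M) hW).equiv)

theorem psi_ιMulti {W : (SA A).Opens} (hW : IsAffineOpen W) (v : Fin n → M) :
    psi M n hW (exteriorPower.ιMulti _ n fun i => u M W (v i)) =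
      u ↥(⋀[A]^n M) W (exteriorPower.ιMulti A n v) := by
  have h1 : exteriorPower.map n (isBaseChange_u M hW).equiv.symm.toLinearMap
      (exteriorPower.ιMulti _ n fun i => u M W (v i)) =
      Synt29.ExtBC.fwd A Γ(SA A, W) M n ((1 : Γ(SA A, W)) ⊗ₜ exteriorPower.ιMulti A n v) := by
    rw [exteriorPower.map_apply_ιMulti, Synt29.ExtBC.fwd_tmul, one_smul]
    congr 1
    funext i
    exact (isBaseChange_u M hW).equiv_symm_apply (v i)
  rw [psi, LinearEquiv.trans_apply, LinearEquiv.trans_apply, LinearEquiv.ofBijective_apply, h1,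
    LinearEquiv.ofBijective_symm_apply_apply, IsBaseChange.equiv_tmul, one_smul]

theorem psi_res {U V : (SA A).Opens} (hU : IsAffineOpen U) (hV : IsAffineOpen V) (h : V ≤ U)
    (e : Fin n → Γ(til M, U)) :
    (til ↥(⋀[A]^n M)).presheaf.map (homOfLE h).op (psi M n hU (exteriorPower.ιMulti _ n e)) =
      psi M n hV (exteriorPower.ιMulti _ n fun j => (til M).presheaf.map (homOfLE h).op (e j)) := by
  let ρ : Γ(SA A, U) →+* Γ(SA A, V) := ((SA A).presheaf.map (homOfLE h).op).hom
  letI : Algebra Γ(SA A, U) Γ(SA A, V) := ρ.toAlgebra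
  letI : Module Γ(SA A, U) Γ(til M, V) := Module.compHom _ ρ
  letI : Module Γ(SA A, U) Γ(til ↥(⋀[A]^n M), V) := Module.compHom _ ρ
  haveI : IsScalarTower Γ(SA A, U) Γ(SA A, V) Γ(til M, V) := .of_algebraMap_smul fun _ _ => rfl
  haveI : IsScalarTower Γ(SA A, U) Γ(SA A, V) Γ(til ↥(⋀[A]^n M), V) := .of_algebraMap_smul fun _ _ => rfl
  haveI : IsScalarTower A Γ(SA A, U) Γ(til ↥(⋀[A]^n M), V) := .of_algebraMap_smul fun a x => by
    show ρ (strMap A U a) • x = strMap A V a • x
    congr 1
  let rM : Γ(til M, U) →ₗ[Γ(SA A, U)] Γ(til M, V) :=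
    { toFun := fun x => (til M).presheaf.map (homOfLE h).op x
      map_add' := map_add _
      map_smul' := fun r x => Scheme.Modules.map_smul (til M) (homOfLE h) r x }
  let rL : Γ(til ↥(⋀[A]^n M), U) →ₗ[Γ(SA A, U)] Γ(til ↥(⋀[A]^n M), V) :=
    { toFun := fun x => (til ↥(⋀[A]^n M)).presheaf.map (homOfLE h).op x
      map_add' := map_add _
      map_smul' := fun r x => Scheme.Modules.map_smul (til ↥(⋀[A]^n M)) (homOfLE h) r x }
  let alt : Γ(til M, U) [⋀^Fin n]→ₗ[Γ(SA A, U)] ↥(⋀[Γ(SA A, V)]^n Γ(til M, V)) :=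
    { toFun := fun v => exteriorPower.ιMulti Γ(SA A, V) n fun i => rM (v i)
      map_update_add' := fun v i x y => by
        have hz : ∀ z, (fun k => rM (Function.update v i z k)) =
            Function.update (fun k => rM (v k)) i (rM z) := fun z =>
          funext fun k => Function.apply_update (fun _ a => rM a) v i z k
        simp only [hz, map_add, AlternatingMap.map_update_add]
      map_update_smul' := fun v i c x => by
        have hz : ∀ z, (fun k => rM (Function.update v i z k)) =
            Function.update (fun k => rM (v k)) i (rM z) := fun z =>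
          funext fun k => Function.apply_update (fun _ a => rM a) v i z k
        simp only [hz, map_smul]
        rw [← algebraMap_smul Γ(SA A, V) c (rM x), AlternatingMap.map_update_smul, algebraMap_smul]
      map_eq_zero_of_eq' := fun v i k hv hik =>
        AlternatingMap.map_eq_zero_of_eq _ _ (by rw [hv]) hik }
  let lhs : ↥(⋀[Γ(SA A, U)]^n Γ(til M, U)) →ₗ[Γ(SA A, U)] Γ(til ↥(⋀[A]^n M), V) :=
    rL ∘ₗ (psi M n hU).toLinearMap
  let rhs : ↥(⋀[Γ(SA A, U)]^n Γ(til M, U)) →ₗ[Γ(SA A, U)] Γ(til ↥(⋀[A]^n M), V) :=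
    ((psi M n hV).toLinearMap.restrictScalars Γ(SA A, U)) ∘ₗ
      exteriorPower.alternatingMapLinearEquiv alt
  suffices hlr : lhs = rhs by
    have h2 := LinearMap.congr_fun hlr (exteriorPower.ιMulti _ n e)
    simp only [lhs, rhs, LinearMap.comp_apply, exteriorPower.alternatingMapLinearEquiv_apply_ιMulti] at h2
    exact h2
  let E := (isBaseChange_u M hU).equiv
  have hE : Function.Surjective ((exteriorPower.map n E.toLinearMap) ∘ₗ
      Synt29.ExtBC.fwd A Γ(SA A, U) M n) := by
    refine Function.Surjective.comp (g := exteriorPower.map n E.toLinearMap) ?_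
      (Synt29.ExtBC.bijective_fwd (A := A) (B := Γ(SA A, U)) (M := M) n).2
    exact exteriorPower.map_surjective E.surjective
  apply LinearMap.cancel_right hE |>.mp
  refine TensorProduct.AlgebraTensorModule.curry_injective ?_
  refine LinearMap.ext_ring ?_
  refine exteriorPower.linearMap_ext (AlternatingMap.ext fun v => ?_)
  show lhs (exteriorPower.map n E.toLinearMap (Synt29.ExtBC.fwd A Γ(SA A, U) M n (1 ⊗ₜ exteriorPower.ιMulti A n v))) =
    rhs (exteriorPower.map n E.toLinearMap (Synt29.ExtBC.fwd A Γ(SA A, U) M n (1 ⊗ₜ exteriorPower.ιMulti A n v)))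
  have hv : exteriorPower.map n E.toLinearMap
      (Synt29.ExtBC.fwd A Γ(SA A, U) M n (1 ⊗ₜ exteriorPower.ιMulti A n v)) =
      exteriorPower.ιMulti _ n fun i => u M U (v i) := by
    rw [Synt29.ExtBC.fwd_tmul, one_smul, exteriorPower.map_apply_ιMulti]
    congr 1
    funext i
    show E ((1 : Γ(SA A, U)) ⊗ₜ v i) = _
    rw [IsBaseChange.equiv_tmul, one_smul]
  rw [hv]
  simp only [lhs, rhs, LinearMap.comp_apply, exteriorPower.alternatingMapLinearEquiv_apply_ιMulti]
  show (til ↥(⋀[A]^n M)).presheaf.map (homOfLE h).op (psi M n hU _) = psi M n hV _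
  rw [psi_ιMulti, res_u]
  show _ = psi M n hV (exteriorPower.ιMulti _ n fun i => (til M).presheaf.map (homOfLE h).op (u M U (v i)))
  simp only [res_u, psi_ιMulti]

theorem isExtPow : ExtPow.IsExtPow n (til (A := A) M) (til (A := A) ↥(⋀[A]^n M)) :=
  ⟨fun U => (psi M n U.2).symm, fun U V h e => psi_res M n U.2 V.2 h e⟩

end Groth.Agent.TildeSec
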